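import Cfsg.Agent.H448.Van.Arith

/-!
# S4842: arithmetic of the rows `PSp_2n(q)`, `Ω_{2n+1}(q)`, `n ≥ 5`

`sp_false` : the congruences `e p^m ≡ c_k (mod r)`, `ord_r(q) = 2 (n - k)`, with `c_k = q^(2 k^2)` (`Val` gives the
exceptional values of `c_1`, `c_2` for `q = 2, 3`), have no solution `0 < m < 2 a n^2`.
`om_false` : the version with `c_k = q^(2 k^2)`, `k ≤ 2`.
`not_dvd_sp` : `p^(2 a n^2) - 1` does not divide the order.
-/

set_option autoImplicit false

namespace Cfsg.Agent.H167.OZ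

/-- the value of the sum of a linear character over the `p`-elements of `Sp_2k(q)`, `q = p ^ a` -/
def Val (p a k : ℕ) (c : ℤ) : Prop :=
  c = (p : ℤ) ^ (2 * a * k ^ 2) ∨ (p ^ a = 3 ∧ k = 1 ∧ c = -3) ∨ (p ^ a = 2 ∧ k = 1 ∧ c = -2) ∨
    (p ^ a = 2 ∧ k = 2 ∧ c = 16)

/-- `e p^m ≡ e' p^s (mod r)` in terms of the exponents, `ord_r(p) = 2 h` -/
theorem key {p r h m s : ℕ} {e e' : ℤ} (hr : r.Prime) (hD : orderOf (p : ZMod r) = 2 * h) (hh : 0 < h)
    (he : e = 1 ∨ e = -1) (he' : e' = 1 ∨ e' = -1) (hd : (r : ℤ) ∣ e * (p : ℤ) ^ m - e' * (p : ℤ) ^ s) :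
    m ≡ s + (if e = e' then 0 else h) [MOD 2 * h] := by
  have : Fact r.Prime := ⟨hr⟩
  have hx0 : (p : ZMod r) ≠ 0 := by
    intro h0
    have h1 : (p : ZMod r) ^ (2 * h) = 1 := by rw [← hD]; exact pow_orderOf_eq_one _
    rw [h0, zero_pow (by omega)] at h1
    exact zero_ne_one h1
  let u : (ZMod r)ˣ := Units.mk0 _ hx0
  have hu : orderOf u = 2 * h := by rw [← orderOf_units]; exact hD
  have hneg : u ^ h = -1 := by
    have h1 : (u ^ h) ^ 2 = 1 := by rw [← pow_mul, mul_comm, ← hu]; exact pow_orderOf_eq_one _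
    have h2 : u ^ h ≠ 1 := by
      intro h3
      have := Nat.le_of_dvd hh (orderOf_dvd_of_pow_eq_one h3)
      omega
    have h3 : ((u ^ h : (ZMod r)ˣ) : ZMod r) ^ 2 = 1 := by rw [← Units.val_pow_eq_pow_val, h1, Units.val_one]
    rcases mul_self_eq_one_iff.1 ((pow_two _).symm.trans h3) with h4 | h4
    · exact absurd (Units.ext h4) h2
    · exact Units.ext (by rw [h4, Units.val_neg, Units.val_one])
  have hc : ((e : ℤ) : ZMod r) * (p : ZMod r) ^ m = ((e' : ℤ) : ZMod r) * (p : ZMod r) ^ s := by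
    have h1 := (ZMod.intCast_zmod_eq_zero_iff_dvd _ r).2 hd
    push_cast at h1
    exact sub_eq_zero.1 h1
  rw [← hu]
  split_ifs with hee
  · subst hee
    refine pow_eq_pow_iff_modEq.1 (Units.ext ?_)
    rw [Units.val_pow_eq_pow_val, Units.val_pow_eq_pow_val]
    have h0 : ((e : ℤ) : ZMod r) ≠ 0 := by
      rcases he with rfl | rfl <;> simp
    exact mul_left_cancel₀ h0 hc
  · refine pow_eq_pow_iff_modEq.1 (Units.ext ?_)
    rw [pow_add, hneg, Units.val_mul, Units.val_pow_eq_pow_val, Units.val_pow_eq_pow_val, Units.val_neg, Units.val_one]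
    rcases he with rfl | rfl <;> rcases he' with rfl | rfl
    · exact absurd rfl hee
    · rw [Int.cast_neg, Int.cast_one, one_mul] at hc
      rw [show ((u : (ZMod r)ˣ) : ZMod r) = (p : ZMod r) from rfl, hc]; ring
    · rw [Int.cast_neg, Int.cast_one, one_mul] at hc
      rw [show ((u : (ZMod r)ˣ) : ZMod r) = (p : ZMod r) from rfl, ← hc]; ring
    · exact absurd rfl hee

/-- the congruence for `k`, after `m = a n t` -/
theorem red {p a n m k t r y : ℕ} {e e' : ℤ} (ha : 0 < a) (ht : m = a * (n * t))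
    (hte : e = 1 ∧ Even t ∨ e = -1 ∧ Odd t) (he' : e' = 1 ∨ e' = -1) (hk : k < n) (hr : r.Prime)
    (hD : orderOf (p : ZMod r) = a * (2 * (n - k))) (hd : (r : ℤ) ∣ e * (p : ℤ) ^ m - e' * (p : ℤ) ^ (a * y)) :
    (2 * ((n : ℤ) - k)) ∣ k * t - (y + (if e' = 1 then 0 else ((n : ℤ) - k))) := by
  have he : e = 1 ∨ e = -1 := by rcases hte with ⟨h, -⟩ | ⟨h, -⟩ <;> simp [h]
  have h1 := key (h := a * (n - k)) hr (by rw [hD]; ring) (Nat.mul_pos ha (by omega)) he he' hd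
  have h2 : n * t ≡ y + (if e = e' then 0 else (n - k)) [MOD 2 * (n - k)] := by
    refine Nat.ModEq.mul_left_cancel' (c := a) ha.ne' ?_
    rw [← ht, show a * (2 * (n - k)) = 2 * (a * (n - k)) by ring]
    convert h1 using 2
    rw [mul_add]
    split_ifs <;> simp
  have h3 := (Nat.modEq_iff_dvd.1 h2.symm)
  push_cast [Nat.cast_sub hk.le] at h3
  obtain ⟨u, hu⟩ := h3
  rcases hte with ⟨rfl, t', ht'⟩ | ⟨rfl, t', ht'⟩ <;> rcases he' with rfl | rfl
  · rw [if_pos rfl] at hu ⊢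
    refine ⟨u - t', ?_⟩
    subst ht'
    push_cast at hu ⊢
    linear_combination hu
  · rw [if_neg (by norm_num)] at hu ⊢
    refine ⟨u - t', ?_⟩
    subst ht'
    push_cast at hu ⊢
    linear_combination hu
  · rw [if_neg (by norm_num)] at hu
    rw [if_pos rfl]
    refine ⟨u - t', ?_⟩
    subst ht'
    push_cast at hu ⊢
    linear_combination hu
  · rw [if_pos rfl] at hu
    rw [if_neg (by norm_num)]
    refine ⟨u - t' - 1, ?_⟩
    subst ht'
    push_cast at hu ⊢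
    linear_combination hu

/-- a primitive prime divisor of order `2 (n - k)` for `q = p ^ a` -/
theorem exists_r {p a n k : ℕ} (hp : p.Prime) (ha : 0 < a) (hnk : 3 ≤ n - k) (h2 : ¬ (p ^ a = 2 ∧ n - k = 3)) :
    ∃ r : ℕ, r.Prime ∧ orderOf (p : ZMod r) = a * (2 * (n - k)) ∧ orderOf ((p ^ a : ℕ) : ZMod r) = 2 * (n - k) := by
  have h6 : 6 ≤ a * (2 * (n - k)) := by nlinarith
  obtain ⟨r, hr, hD⟩ := Cfsg.Agent.Lib.Zsigmondy.exists_prime_orderOf (a := p) (n := a * (2 * (n - k))) hp.two_le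
    (by omega) (by omega) (by
      rintro ⟨rfl, h⟩
      have ha1 : a = 1 := by
        by_contra h1
        have h2 : 2 ≤ a := by omega
        have : 12 ≤ a * (2 * (n - k)) := by nlinarith
        omega
      subst ha1
      exact h2 ⟨by norm_num, by omega⟩)
  refine ⟨r, hr, hD, ?_⟩
  rw [Nat.cast_pow, orderOf_pow_of_dvd ha.ne' (by rw [hD]; exact dvd_mul_right _ _), hD,
    Nat.mul_div_cancel_left _ ha]

/-- the first two congruences -/
theorem exists_t {p a n m : ℕ} {e : ℤ} (ha : 0 < a) (hn : 4 ≤ n)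
    (hm0 : 0 < m) (hm : m < 2 * (a * n ^ 2)) (he : e = 1 ∨ e = -1)
    (h0 : ∃ r : ℕ, r.Prime ∧ orderOf (p : ZMod r) = a * (2 * n) ∧ (r : ℤ) ∣ e * (p : ℤ) ^ m - 1) :
    ∃ t, 0 < t ∧ t < 2 * n ∧ m = a * (n * t) ∧ (e = 1 ∧ Even t ∨ e = -1 ∧ Odd t) := by
  obtain ⟨r, hr, hD, hd⟩ := h0
  have h1 := key (m := m) (e' := 1) (s := 0) (h := a * n) hr (by rw [hD]; ring) (Nat.mul_pos ha (by omega)) he
    (Or.inl rfl) (by simpa using hd)
  rw [zero_add] at h1
  have h2 := Nat.modEq_iff_dvd.1 h1.symm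
  obtain ⟨u, hu⟩ := h2
  have han : (0 : ℤ) < a * n := by positivity
  have hm0' : (0 : ℤ) < m := by exact_mod_cast hm0
  have hm' : (m : ℤ) < 2 * (a * n ^ 2) := by exact_mod_cast hm
  rcases he with rfl | rfl
  · rw [if_pos rfl] at hu
    push_cast at hu
    have hmu : (m : ℤ) = (a * n) * (2 * u) := by linear_combination hu
    have hu0 : 0 < u := by
      by_contra h
      nlinarith
    have hu1 : u < n := by
      by_contra h
      have : (n : ℤ) ≤ u := by omega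
      nlinarith
    refine ⟨2 * u.toNat, by omega, by omega, ?_, Or.inl ⟨rfl, even_two_mul _⟩⟩
    have hc : ((2 * u.toNat : ℕ) : ℤ) = 2 * u := by push_cast; rw [Int.toNat_of_nonneg hu0.le]
    have : (m : ℤ) = ((a * (n * (2 * u.toNat)) : ℕ) : ℤ) := by
      rw [Nat.cast_mul, Nat.cast_mul, hc, hmu]; ring
    exact_mod_cast this
  · rw [if_neg (by norm_num)] at hu
    push_cast at hu
    have hmu : (m : ℤ) = (a * n) * (2 * u + 1) := by linear_combination hu
    have hu0 : 0 ≤ u := by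
      by_contra h
      nlinarith
    have hu1 : u < n := by
      by_contra h
      have : (n : ℤ) ≤ u := by omega
      nlinarith
    refine ⟨2 * u.toNat + 1, by omega, by omega, ?_, Or.inr ⟨rfl, odd_two_mul_add_one _⟩⟩
    have hc : ((2 * u.toNat + 1 : ℕ) : ℤ) = 2 * u + 1 := by push_cast; rw [Int.toNat_of_nonneg hu0]
    have : (m : ℤ) = ((a * (n * (2 * u.toNat + 1)) : ℕ) : ℤ) := by
      rw [Nat.cast_mul, Nat.cast_mul, hc, hmu]; ring
    exact_mod_cast this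

/-- `2 (n - 1) ∣ t - 2` -/
theorem t_two {n t : ℕ} (hn : 4 ≤ n) (h0 : 0 < t) (h1 : t < 2 * n) (h : (2 * ((n : ℤ) - (1 : ℕ))) ∣ (1 : ℕ) * t - ((2 : ℕ) + 0)) :
    t = 2 := by
  push_cast at h
  by_contra h2
  have h3 := Int.le_of_dvd (a := 2 * ((n : ℤ) - 1)) (b := |1 * (t : ℤ) - 2|) (by
    rw [abs_pos]; omega) ((dvd_abs _ _).2 h)
  rw [le_abs] at h3
  omega

/-- `2 (n - 1) ∣ t - n` -/
theorem t_n {n t : ℕ} (hn : 4 ≤ n) (h0 : 0 < t) (h1 : t < 2 * n)
    (h : (2 * ((n : ℤ) - (1 : ℕ))) ∣ (1 : ℕ) * t - ((1 : ℕ) + ((n : ℤ) - (1 : ℕ)))) : t = n := by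
  push_cast at h
  by_contra h2
  have h3 := Int.le_of_dvd (a := 2 * ((n : ℤ) - 1)) (b := |1 * (t : ℤ) - (1 + ((n : ℤ) - 1))|) (by
    rw [abs_pos]; omega) ((dvd_abs _ _).2 h)
  rw [le_abs] at h3
  omega

/-- `p ^ a = 3` resp. `2` -/
theorem prime_of_pow {p a l : ℕ} (ha : 0 < a) (hl : l.Prime) (h : p ^ a = l) : p = l ∧ a = 1 := by
  have h1 : p ∣ l := h ▸ dvd_pow_self p ha.ne'
  rcases (Nat.dvd_prime hl).1 h1 with h2 | h2
  · rw [h2, one_pow] at h
    exact absurd h.symm hl.one_lt.ne'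
  · refine ⟨h2, ?_⟩
    rw [h2] at h
    exact Nat.pow_right_injective hl.two_le (by simpa using h)

/-- **The version with perfect `K`**: rows `Ω_{2n+1}(q)`. -/
theorem om_false {p a n m : ℕ} {e : ℤ} (hp : p.Prime) (ha : 0 < a) (hn : 5 ≤ n) (h52 : ¬ (p ^ a = 2 ∧ n = 5))
    (hm0 : 0 < m) (hm : m < 2 * (a * n ^ 2)) (he : e = 1 ∨ e = -1)
    (hc : ∀ k r : ℕ, k ≤ 2 → r.Prime → orderOf (p : ZMod r) = a * (2 * (n - k)) →
      orderOf ((p ^ a : ℕ) : ZMod r) = 2 * (n - k) → (r : ℤ) ∣ e * (p : ℤ) ^ m - (p : ℤ) ^ (2 * a * k ^ 2)) : False := by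
  obtain ⟨t, ht0, ht1, htm, hte⟩ := exists_t ha (by omega) hm0 hm he (by
    obtain ⟨r, hr, hD, hD'⟩ := exists_r (n := n) (k := 0) hp ha (by omega) (by omega)
    refine ⟨r, hr, hD, ?_⟩
    simpa using hc 0 r (by norm_num) hr hD hD')
  have ht : t = 2 := by
    obtain ⟨r, hr, hD, hD'⟩ := exists_r (n := n) (k := 1) hp ha (by omega) (by omega)
    have h1 := hc 1 r (by norm_num) hr hD hD'
    have h2 := red (y := 2) (e' := 1) ha htm hte (Or.inl rfl) (by omega) hr hD (by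
      rw [one_mul, show a * 2 = 2 * a * 1 ^ 2 by ring]; exact h1)
    rw [if_pos rfl] at h2
    exact t_two (by omega) ht0 ht1 h2
  subst ht
  obtain ⟨r, hr, hD, hD'⟩ := exists_r (n := n) (k := 2) hp ha (by omega) (by
    rintro ⟨h1, h2⟩; exact h52 ⟨h1, by omega⟩)
  have h1 := hc 2 r (by norm_num) hr hD hD'
  have h2 := red (y := 8) (e' := 1) ha htm hte (Or.inl rfl) (by omega) hr hD (by
    rw [one_mul, show a * 8 = 2 * a * 2 ^ 2 by ring]; exact h1)
  rw [if_pos rfl] at h2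
  have h3 : (2 * ((n : ℤ) - 2)) ∣ 4 := by
    obtain ⟨u, hu⟩ := h2
    refine ⟨-u, ?_⟩
    push_cast at hu
    linear_combination (-1 : ℤ) * hu
  have h4 := Int.le_of_dvd (by norm_num) h3
  omega

/-- **The version with the exceptional values**: rows `PSp_2n(q)`. -/
theorem sp_false {p a n m : ℕ} {e : ℤ} (hp : p.Prime) (ha : 0 < a) (hn : 5 ≤ n) (h52 : ¬ (p ^ a = 2 ∧ n ≤ 6))
    (hm0 : 0 < m) (hm : m < 2 * (a * n ^ 2)) (he : e = 1 ∨ e = -1)
    (hc : ∀ k r : ℕ, k ≤ 5 → n < 2 * (n - k) → ¬ (p ^ a = 2 ∧ n - k = 3) → r.Prime →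
      orderOf (p : ZMod r) = a * (2 * (n - k)) → orderOf ((p ^ a : ℕ) : ZMod r) = 2 * (n - k) →
      ∃ c, Val p a k c ∧ (r : ℤ) ∣ e * (p : ℤ) ^ m - c) : False := by
  obtain ⟨t, ht0, ht1, htm, hte⟩ := exists_t ha (by omega) hm0 hm he (by
    obtain ⟨r, hr, hD, hD'⟩ := exists_r (n := n) (k := 0) hp ha (by omega) (by omega)
    refine ⟨r, hr, hD, ?_⟩
    obtain ⟨c, hv, hd⟩ := hc 0 r (by norm_num) (by omega) (by omega) hr hD hD'
    rcases hv with rfl | ⟨-, h, -⟩ | ⟨-, h, -⟩ | ⟨-, h, -⟩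
    · simpa using hd
    all_goals omega)
  have ht : t = 2 ∨ (t = n ∧ a = 1 ∧ (p = 2 ∨ p = 3)) := by
    obtain ⟨r, hr, hD, hD'⟩ := exists_r (n := n) (k := 1) hp ha (by omega) (by omega)
    obtain ⟨c, hv, hd⟩ := hc 1 r (by norm_num) (by omega) (by omega) hr hD hD'
    rcases hv with rfl | ⟨hq, -, rfl⟩ | ⟨hq, -, rfl⟩ | ⟨-, h, -⟩
    · left
      have h2 := red (y := 2) (e' := 1) ha htm hte (Or.inl rfl) (by omega) hr hD (by
        rw [one_mul, show a * 2 = 2 * a * 1 ^ 2 by ring]; exact hd)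
      rw [if_pos rfl] at h2
      exact t_two (by omega) ht0 ht1 h2
    · right
      obtain ⟨rfl, rfl⟩ := prime_of_pow ha Nat.prime_three hq
      have h2 := red (y := 1) (e' := -1) ha htm hte (Or.inr rfl) (by omega) hr hD (by
        convert hd using 2
        norm_num)
      rw [if_neg (by norm_num)] at h2
      exact ⟨t_n (by omega) ht0 ht1 h2, rfl, Or.inr rfl⟩
    · right
      obtain ⟨rfl, rfl⟩ := prime_of_pow ha Nat.prime_two hq
      have h2 := red (y := 1) (e' := -1) ha htm hte (Or.inr rfl) (by omega) hr hD (by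
        convert hd using 2
        norm_num)
      rw [if_neg (by norm_num)] at h2
      exact ⟨t_n (by omega) ht0 ht1 h2, rfl, Or.inl rfl⟩
    · omega
  -- `k = 2`
  have hq2 : p ^ a = 2 := by
    obtain ⟨r, hr, hD, hD'⟩ := exists_r (n := n) (k := 2) hp ha (by omega) (by
      rintro ⟨h1, h2⟩; exact h52 ⟨h1, by omega⟩)
    obtain ⟨c, hv, hd⟩ := hc 2 r (by norm_num) (by omega) (by rintro ⟨h1, h2⟩; exact h52 ⟨h1, by omega⟩) hr hD hD'
    rcases hv with rfl | ⟨-, h, -⟩ | ⟨-, h, -⟩ | ⟨h, -, -⟩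
    · exfalso
      have h2 := red (y := 8) (e' := 1) ha htm hte (Or.inl rfl) (by omega) hr hD (by
        rw [one_mul, show a * 8 = 2 * a * 2 ^ 2 by ring]; exact hd)
      rw [if_pos rfl] at h2
      have h3 : (2 * ((n : ℤ) - 2)) ∣ 4 := by
        obtain ⟨u, hu⟩ := h2
        rcases ht with rfl | ⟨rfl, -⟩
        · refine ⟨-u, ?_⟩
          push_cast at hu
          linear_combination (-1 : ℤ) * hu
        · refine ⟨1 - u, ?_⟩
          push_cast at hu
          linear_combination (-1 : ℤ) * hu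
      have h4 := Int.le_of_dvd (by norm_num) h3
      omega
    · omega
    · omega
    · exact h
  obtain ⟨rfl, rfl⟩ := prime_of_pow ha Nat.prime_two hq2
  have hn7 : 7 ≤ n := by
    by_contra h
    exact h52 ⟨hq2, by omega⟩
  -- `k ≥ 3`
  have hk : ∀ k, 3 ≤ k → k ≤ 5 → n < 2 * (n - k) → n - k ≠ 3 →
      (2 * ((n : ℤ) - k)) ∣ k * t - ((2 * k ^ 2 : ℕ) + 0) := by
    intro k h3 h5 h1 h2
    obtain ⟨r, hr, hD, hD'⟩ := exists_r (n := n) (k := k) hp ha (by omega) (by omega)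
    obtain ⟨c, hv, hd⟩ := hc k r h5 h1 (by omega) hr hD hD'
    rcases hv with rfl | ⟨-, h, -⟩ | ⟨-, h, -⟩ | ⟨-, h, -⟩
    · have h2 := red (y := 2 * k ^ 2) (e' := 1) ha htm hte (Or.inl rfl) (by omega) hr hD (by
        rw [one_mul, show 1 * (2 * k ^ 2) = 2 * 1 * k ^ 2 by ring]; exact hd)
      rw [if_pos rfl] at h2
      exact h2
    all_goals omega
  have h3 := hk 3 le_rfl (by norm_num) (by omega) (by omega)
  have h4 := hk 4 (by norm_num) (by norm_num)
  have h5 := hk 5 (by norm_num) le_rfl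
  rcases ht with rfl | ⟨rfl, -⟩
  · have h6 : (2 * ((n : ℤ) - 3)) ∣ 12 := by
      obtain ⟨u, hu⟩ := h3
      refine ⟨-u, ?_⟩
      push_cast at hu
      linear_combination (-1 : ℤ) * hu
    have h7 := Int.le_of_dvd (by norm_num) h6
    have h8 : n ≤ 9 := by omega
    interval_cases n
    · omega
    · omega
    · have := h4 (by norm_num) (by norm_num)
      omega
  · have h6 : (2 * ((t : ℤ) - 3)) ∣ t - 12 := by
      obtain ⟨u, hu⟩ := h3
      refine ⟨u - 1, ?_⟩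
      push_cast at hu
      linear_combination hu
    have h7 : t = 12 := by
      by_contra h
      have h8 := Int.le_of_dvd (a := 2 * ((t : ℤ) - 3)) (b := |(t : ℤ) - 12|) (by rw [abs_pos]; omega)
        ((dvd_abs _ _).2 h6)
      rw [le_abs] at h8
      omega
    subst h7
    have := h5 (by norm_num) (by norm_num)
    omega

/-- `p^(2 a n^2) - 1` does not divide the order of `Sp_2n(q)` -/
theorem not_dvd_sp {p a n N : ℕ} (hp : p.Prime) (ha : 0 < a) (hn : 2 ≤ n)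
    (h : N ∣ p ^ (a * n ^ 2) * ∏ i ∈ Finset.range n, ((p ^ a) ^ (2 * (i + 1)) - 1)) :
    ¬ p ^ (2 * (a * n ^ 2)) - 1 ∣ N := by
  rw [show 2 * (a * n ^ 2) = a * (2 * n ^ 2) by ring]
  refine Cfsg.Agent.H448.Van.not_dvd_card hp ha (by nlinarith) (N := a * n ^ 2)
    (L := (List.range n).map fun i => 2 * (i + 1)) ?_ ?_
  · rw [List.map_map]
    exact h
  · intro d hd
    rw [List.mem_map] at hd
    obtain ⟨i, hi, rfl⟩ := hd
    rw [List.mem_range] at hi
    refine ⟨by omega, by nlinarith⟩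

end Cfsg.Agent.H167.OZ
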